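import Groth.Agent.Sga7.H169.QuasiUnip
import Mathlib.NumberTheory.Padics.PadicNumbers
import Mathlib.LinearAlgebra.Matrix.GeneralLinearGroup.Defs
import Mathlib.Topology.Instances.Matrix
import Mathlib.Topology.Algebra.OpenSubgroup
import Mathlib.RingTheory.Nilpotent.Defs
import Mathlib.LinearAlgebra.Eigenspace.Zero
import Mathlib.LinearAlgebra.FreeModule.PID
import Mathlib.Data.FunLike.Fintype

/-!
# Cofinite `ℓ`-torsion representations: uniform quasi-unipotence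

`D` an `ℓ`-power torsion group with `D[ℓ]` finite, `G` a compact group acting continuously on the
discrete group `D`.  If every continuous `ℓ`-adic representation of `G` is unipotent on the
intersection of `I` with an open subgroup, then there are `N > 0` and `M` with `(σ^N - 1)^M = 0` on
`D` for all `σ ∈ I`.
-/

set_option autoImplicit false

namespace Groth.Agent.Sga7.H112.CofiniteRep

open Groth.Agent.Sga7.H169.QuasiUnip Module

section Tors

variable (D : Type*) [AddCommGroup D] (ℓ : ℕ)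

/-- `D[ℓ^a]`. -/
def tors (a : ℕ) : AddSubgroup D where
  carrier := {x | ℓ ^ a • x = 0}
  zero_mem' := smul_zero _
  add_mem' {x y} hx hy := by
    change ℓ ^ a • (x + y) = 0
    rw [smul_add, show ℓ ^ a • x = 0 from hx, show ℓ ^ a • y = 0 from hy, add_zero]
  neg_mem' {x} hx := by
    change ℓ ^ a • (-x) = 0
    rw [smul_neg, show ℓ ^ a • x = 0 from hx, neg_zero]

variable {D ℓ}

theorem mem_tors {a : ℕ} {x : D} : x ∈ tors D ℓ a ↔ ℓ ^ a • x = 0 := Iff.rfl

theorem finite_tors (hfin : {x : D | ℓ • x = 0}.Finite) (a : ℕ) : Finite (tors D ℓ a) := by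
  change Finite {x : D | ℓ ^ a • x = 0}
  rw [Set.finite_coe_iff]
  induction a with
  | zero =>
    refine Set.Finite.subset (Set.finite_singleton (0 : D)) fun x hx => ?_
    simpa using hx
  | succ a ih =>
    refine Set.Finite.of_finite_fibers (fun x => ℓ • x) (ih.subset ?_) ?_
    · rintro _ ⟨x, hx, rfl⟩
      change ℓ ^ a • ℓ • x = 0
      rw [smul_smul, ← pow_succ]
      exact hx
    · rintro _ ⟨x, hx, rfl⟩
      refine (hfin.image fun z => z + x).subset ?_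
      rintro y ⟨-, hy⟩
      have hy' : ℓ • y = ℓ • x := hy
      refine ⟨y - x, ?_, sub_add_cancel _ _⟩
      change ℓ • (y - x) = 0
      rw [smul_sub, hy', sub_self]

variable (D ℓ)

/-- The tower `D[ℓ^a]` with multiplication by `ℓ` as transition maps. -/
def tower : Tower ℓ (fun a => tors D ℓ a) where
  tr {a b} h :=
    { toFun := fun x => ⟨ℓ ^ (b - a) • x.1, by
        rw [mem_tors, smul_smul, ← pow_add, Nat.add_sub_cancel' h]
        exact x.2⟩
      map_zero' := Subtype.ext (smul_zero _)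
      map_add' := fun x y => Subtype.ext (smul_add _ _ _) }
  mul a :=
    { toFun := fun x => ⟨x.1, by
        rw [mem_tors, pow_succ', mul_smul, show ℓ ^ a • x.1 = 0 from x.2, smul_zero]⟩
      map_zero' := rfl
      map_add' := fun x y => rfl }
  tr_refl a x := Subtype.ext (by simp)
  tr_tr {a b c} h h' x := by
    refine Subtype.ext ?_
    change ℓ ^ (b - a) • ℓ ^ (c - b) • x.1 = ℓ ^ (c - a) • x.1
    rw [smul_smul, ← pow_add]
    congr 2
    omega
  tr_mul {a b} h x := by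
    refine Subtype.ext ?_
    change ℓ ^ (b + 1 - (a + 1)) • x.1 = ℓ ^ (b - a) • x.1
    congr 2
    omega
  tr_mul_self a x := by
    refine Subtype.ext ?_
    change ℓ ^ (a + 1 - a) • x.1 = ℓ • x.1
    rw [Nat.add_sub_cancel_left, pow_one]
  exact a x hx := by
    refine ⟨⟨x.1, ?_⟩, rfl⟩
    have h1 : ℓ ^ (a + 1 - (0 + 1)) • x.1 = 0 := congrArg Subtype.val hx
    rwa [Nat.add_sub_add_right, Nat.sub_zero] at h1
  torsion a x := Subtype.ext x.2

variable {D ℓ}

theorem tower_tr {a b : ℕ} (h : a ≤ b) (x : tors D ℓ b) :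
    ((tower D ℓ).tr h x).1 = ℓ ^ (b - a) • x.1 := rfl

/-- `ℓ^n D` is divisible for large `n`. -/
theorem exists_divisible (htor : ∀ x : D, ∃ ν : ℕ, ℓ ^ ν • x = 0) (hfin : {x : D | ℓ • x = 0}.Finite) :
    ∃ n : ℕ, ∀ x : D, ∃ y : D, ℓ ^ (n + 1) • y = ℓ ^ n • x := by
  classical
  let P : ℕ → Set D := fun n => {x | ℓ • x = 0 ∧ ∃ y : D, ℓ ^ n • y = x}
  have hPfin : ∀ n, (P n).Finite := fun n => hfin.subset fun x hx => hx.1
  have hPanti : ∀ {m n : ℕ}, m ≤ n → P n ⊆ P m := by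
    rintro m n h x ⟨hx, y, hy⟩
    refine ⟨hx, ℓ ^ (n - m) • y, ?_⟩
    rw [smul_smul, ← pow_add, Nat.add_sub_cancel' h, hy]
  obtain ⟨n, hn⟩ : ∃ n, ∀ m, (P n).ncard ≤ (P m).ncard := by
    obtain ⟨_, ⟨n, rfl⟩, hn⟩ := WellFounded.has_min (r := (· < ·)) wellFounded_lt
      (Set.range fun n => (P n).ncard) ⟨_, 0, rfl⟩
    exact ⟨n, fun m => not_lt.mp (hn _ ⟨m, rfl⟩)⟩
  have hP : ∀ k, P (n + k) = P n := fun k =>
    Set.eq_of_subset_of_ncard_le (hPanti (Nat.le_add_right n k)) (hn _) (hPfin n)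
  refine ⟨n, ?_⟩
  have key : ∀ (m : ℕ) (x : D), ℓ ^ m • ℓ ^ n • x = 0 → ∃ y : D, ℓ ^ (n + 1) • y = ℓ ^ n • x := by
    intro m
    induction m with
    | zero =>
      intro x hx
      refine ⟨0, ?_⟩
      rw [smul_zero]
      simpa using hx.symm
    | succ m ih =>
      intro x hx
      have h1 : ℓ ^ m • ℓ ^ n • x ∈ P n := by
        refine ⟨?_, ℓ ^ m • x, by rw [smul_comm]⟩
        rw [smul_smul, ← pow_succ']
        exact hx
      rw [← hP (m + 1)] at h1
      obtain ⟨-, y, hy⟩ := h1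
      obtain ⟨z, hz⟩ := ih (x - ℓ • y) (by
        rw [smul_sub, smul_sub, ← hy, smul_smul, smul_smul, ← pow_add, ← pow_succ,
          show m + n + 1 = n + (m + 1) by omega, sub_self])
      refine ⟨z + y, ?_⟩
      rw [smul_add, hz, smul_sub, smul_smul (ℓ ^ n), ← pow_succ, sub_add_cancel]
  intro x
  obtain ⟨ν, hν⟩ := htor (ℓ ^ n • x)
  exact key ν x hν

/-- Elements of `ℓ^n D` lift to the Tate module. -/
theorem exists_lift {n : ℕ} (hn : ∀ x : D, ∃ y : D, ℓ ^ (n + 1) • y = ℓ ^ n • x)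
    (htor : ∀ x : D, ∃ ν : ℕ, ℓ ^ ν • x = 0) (x : D) :
    ∃ t : ∀ a, tors D ℓ a, (∀ (a b : ℕ) (h : a ≤ b), (tower D ℓ).tr h (t b) = t a) ∧
      ∃ m, (t m).1 = ℓ ^ n • x := by
  choose f hf using hn
  let y : ℕ → D := fun i => f^[i] x
  have hy : ∀ i, ℓ • ℓ ^ n • y (i + 1) = ℓ ^ n • y i := by
    intro i
    change ℓ • ℓ ^ n • f^[i + 1] x = ℓ ^ n • f^[i] x
    rw [Function.iterate_succ_apply', smul_smul, ← pow_succ']
    exact hf _
  have hy' : ∀ k i, ℓ ^ k • ℓ ^ n • y (i + k) = ℓ ^ n • y i := by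
    intro k
    induction k with
    | zero => intro i; rw [pow_zero, one_smul, add_zero]
    | succ k ih =>
      intro i
      rw [pow_succ, mul_smul, ← add_assoc, hy, ih]
  obtain ⟨m, hm⟩ := htor (ℓ ^ n • x)
  refine ⟨fun a => ⟨ℓ ^ m • ℓ ^ n • y a, ?_⟩, ?_, m, ?_⟩
  · rw [mem_tors, smul_comm]
    have h1 := hy' a 0
    rw [zero_add] at h1
    rw [h1]
    exact hm
  · intro a b h
    refine Subtype.ext ?_
    rw [tower_tr]
    change ℓ ^ (b - a) • ℓ ^ m • ℓ ^ n • y b = ℓ ^ m • ℓ ^ n • y a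
    rw [smul_comm]
    have h1 := hy' (b - a) a
    rw [Nat.add_sub_cancel' h] at h1
    rw [h1]
  · have h1 := hy' m 0
    rw [zero_add] at h1
    exact h1

/-- The restriction of an endomorphism to `D[ℓ^a]`. -/
def res (f : AddMonoid.End D) (a : ℕ) : AddMonoid.End (tors D ℓ a) :=
  { toFun := fun x => ⟨f x.1, by
      rw [mem_tors, ← map_nsmul, show ℓ ^ a • x.1 = 0 from x.2, map_zero]⟩
    map_zero' := Subtype.ext (map_zero f)
    map_add' := fun x y => Subtype.ext (map_add f _ _) }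

theorem res_apply (f : AddMonoid.End D) (a : ℕ) (x : tors D ℓ a) : (res f a x).1 = f x.1 := rfl

theorem compat_res (f : AddMonoid.End D) : (tower D ℓ).Compat (fun a => res f a) := by
  intro a b h x
  refine Subtype.ext ?_
  rw [tower_tr, res_apply, res_apply, tower_tr, map_nsmul]

theorem res_pow_apply (f : AddMonoid.End D) (N : ℕ) (a : ℕ) (x : tors D ℓ a) :
    (((res f a) ^ N) x).1 = (f ^ N) x.1 := by
  induction N with
  | zero => rfl
  | succ N ih =>
    rw [pow_succ', pow_succ']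
    change f (((res f a) ^ N) x).1 = f ((f ^ N) x.1)
    rw [ih]

theorem res_pow_sub_one_pow_apply (f : AddMonoid.End D) (N m : ℕ) (a : ℕ) (x : tors D ℓ a) :
    (((res f a ^ N - 1) ^ m) x).1 = ((f ^ N - 1) ^ m) x.1 := by
  induction m with
  | zero => rfl
  | succ m ih =>
    rw [pow_succ', pow_succ']
    change (((res f a) ^ N) (((res f a ^ N - 1) ^ m) x)).1 - (((res f a ^ N - 1) ^ m) x).1 =
      (f ^ N) (((f ^ N - 1) ^ m) x.1) - ((f ^ N - 1) ^ m) x.1
    rw [res_pow_apply, ih]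

end Tors

section Rep

variable {D : Type*} [AddCommGroup D] {ℓ : ℕ} [Fact ℓ.Prime]

variable (D ℓ) in
/-- The Tate module of `D`. -/
noncomputable abbrev Tate : Type _ := letI := (tower D ℓ).zpModule; (tower D ℓ).lim

noncomputable instance : Module ℤ_[ℓ] (Tate D ℓ) :=
  letI := (tower D ℓ).zpModule; inferInstanceAs (Module ℤ_[ℓ] (tower D ℓ).lim)

theorem natCast_smul_val (n : ℕ) (x : Tate D ℓ) (a : ℕ) : (((n : ℤ_[ℓ]) • x).1 a) = n • x.1 a := by
  let := (tower D ℓ).zpModule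
  rw [Nat.cast_smul_eq_nsmul]
  rfl

theorem val_eq (x : Tate D ℓ) {a b : ℕ} (h : a ≤ b) : ℓ ^ (b - a) • (x.1 b).1 = (x.1 a).1 := by
  have h1 := congrArg Subtype.val (x.2 a b h)
  exact h1

/-- Elements of the Tate module with zero component in `D[ℓ^k]` are divisible by `ℓ^k`. -/
theorem exists_smul_eq (x : Tate D ℓ) {k : ℕ} (hk : x.1 k = 0) : ∃ y : Tate D ℓ, (ℓ : ℤ_[ℓ]) ^ k • y = x := by
  let := (tower D ℓ).zpModule
  refine ⟨⟨fun a => ⟨(x.1 (a + k)).1, ?_⟩, ?_⟩, ?_⟩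
  · have h1 := val_eq x (Nat.le_add_left k a)
    rw [Nat.add_sub_cancel, hk] at h1
    exact h1
  · intro a b h
    refine Subtype.ext ?_
    rw [tower_tr]
    have h1 := val_eq x (Nat.add_le_add_right h k)
    rw [Nat.add_sub_add_right] at h1
    exact h1
  · refine Subtype.ext (funext fun a => Subtype.ext ?_)
    rw [← Nat.cast_pow, natCast_smul_val]
    change ℓ ^ k • (x.1 (a + k)).1 = (x.1 a).1
    have h1 := val_eq x (Nat.le_add_right a k)
    rwa [Nat.add_sub_cancel_left] at h1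

theorem smul_eq_zero_imp (x : Tate D ℓ) (h : (ℓ : ℤ_[ℓ]) • x = 0) : x = 0 := by
  refine Subtype.ext (funext fun a => Subtype.ext ?_)
  have h1 := val_eq x (Nat.le_succ a)
  have h2 := natCast_smul_val ℓ x (a + 1)
  rw [h] at h2
  rw [Nat.succ_eq_add_one, Nat.add_sub_cancel_left, pow_one] at h1
  rw [← h1]
  exact (congrArg Subtype.val h2).symm

/-- `G` acts on the Tate module. -/
noncomputable def tateHom {G : Type*} [Group G] (φ : G →* AddMonoid.End D) :
    G →* Module.End ℤ_[ℓ] (Tate D ℓ) where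
  toFun g := (tower D ℓ).limEnd (fun a => res (φ g) a) (compat_res _)
  map_one' := by
    refine LinearMap.ext fun x => Subtype.ext (funext fun a => Subtype.ext ?_)
    change φ 1 (x.1 a).1 = (x.1 a).1
    rw [map_one]
    rfl
  map_mul' g h := by
    refine LinearMap.ext fun x => Subtype.ext (funext fun a => Subtype.ext ?_)
    change φ (g * h) (x.1 a).1 = φ g (φ h (x.1 a).1)
    rw [map_mul]
    rfl

theorem tateHom_apply {G : Type*} [Group G] (φ : G →* AddMonoid.End D) (g : G) (x : Tate D ℓ)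
    (a : ℕ) : ((tateHom φ g x).1 a).1 = φ g (x.1 a).1 := rfl

theorem tateHom_sub_one_pow_apply {G : Type*} [Group G] (φ : G →* AddMonoid.End D) (g : G) (m : ℕ)
    (x : Tate D ℓ) (a : ℕ) :
    ((((tateHom φ g - 1) ^ m) x).1 a).1 = ((φ g - 1) ^ m) (x.1 a).1 := by
  induction m with
  | zero => rfl
  | succ m ih =>
    rw [pow_succ', pow_succ', Module.End.mul_apply]
    change φ g ((((tateHom φ g - 1) ^ m) x).1 a).1 - ((((tateHom φ g - 1) ^ m) x).1 a).1 =
      φ g (((φ g - 1) ^ m) (x.1 a).1) - ((φ g - 1) ^ m) (x.1 a).1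
    rw [ih]

theorem isTorsionFree : Module.IsTorsionFree ℤ_[ℓ] (Tate D ℓ) := by
  refine ⟨fun r hr x y hxy => ?_⟩
  have hr0 : r ≠ 0 := hr.ne_zero
  have h0 : r • (x - y) = 0 := by
    rw [smul_sub]
    exact sub_eq_zero.mpr hxy
  have h2 := PadicInt.unitCoeff_spec hr0
  rw [h2, mul_smul] at h0
  have h3 : (ℓ : ℤ_[ℓ]) ^ r.valuation • (x - y) = 0 := by
    have h4 : (PadicInt.unitCoeff hr0)⁻¹ • ((PadicInt.unitCoeff hr0) •
        ((ℓ : ℤ_[ℓ]) ^ r.valuation • (x - y))) = 0 := by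
      rw [Units.smul_def (PadicInt.unitCoeff hr0), h0, smul_zero]
    rwa [inv_smul_smul] at h4
  have h5 : ∀ k : ℕ, (ℓ : ℤ_[ℓ]) ^ k • (x - y) = 0 → x - y = 0 := by
    intro k
    induction k with
    | zero => intro h; rwa [pow_zero, one_smul] at h
    | succ k ih =>
      intro h
      rw [pow_succ', mul_smul] at h
      exact ih (smul_eq_zero_imp _ h)
  exact sub_eq_zero.mp (h5 _ h3)

theorem finite_tate (hfin : {x : D | ℓ • x = 0}.Finite) : Module.Finite ℤ_[ℓ] (Tate D ℓ) := by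
  have := finite_tors hfin
  exact (tower D ℓ).finite_lim

theorem free_tate (hfin : {x : D | ℓ • x = 0}.Finite) : Module.Free ℤ_[ℓ] (Tate D ℓ) := by
  have := finite_tate hfin
  have := isTorsionFree (D := D) (ℓ := ℓ)
  infer_instance

/-- The `ℓ`-adic representation on the Tate module. -/
noncomputable def rep {r : ℕ} (b : Basis (Fin r) ℤ_[ℓ] (Tate D ℓ)) {G : Type*} [Group G]
    (φ : G →* AddMonoid.End D) : G →* Matrix.GeneralLinearGroup (Fin r) (Padic ℓ) :=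
  MonoidHom.toHomUnits ((RingHom.toMonoidHom (RingHom.mapMatrix (algebraMap ℤ_[ℓ] ℚ_[ℓ]))).comp
    ((MonoidHomClass.toMonoidHom (LinearMap.toMatrixAlgEquiv b)).comp (tateHom φ)))

theorem rep_apply {r : ℕ} (b : Basis (Fin r) ℤ_[ℓ] (Tate D ℓ)) {G : Type*} [Group G]
    (φ : G →* AddMonoid.End D) (g : G) : (rep b φ g : Matrix (Fin r) (Fin r) ℚ_[ℓ]) =
      (RingHom.mapMatrix (algebraMap ℤ_[ℓ] ℚ_[ℓ])) (LinearMap.toMatrixAlgEquiv b (tateHom φ g)) := rfl

theorem rep_apply_apply {r : ℕ} (b : Basis (Fin r) ℤ_[ℓ] (Tate D ℓ)) {G : Type*} [Group G]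
    (φ : G →* AddMonoid.End D) (g : G) (i j : Fin r) :
    (rep b φ g : Matrix (Fin r) (Fin r) ℚ_[ℓ]) i j =
      ((b.repr (tateHom φ g (b j)) i : ℤ_[ℓ]) : ℚ_[ℓ]) := by
  rw [rep_apply, RingHom.mapMatrix_apply, Matrix.map_apply, LinearMap.toMatrixAlgEquiv_apply]
  rfl

/-- A nilpotent endomorphism has index of nilpotency at most the rank. -/
theorem sub_one_pow_eq_zero {r : ℕ} (b : Basis (Fin r) ℤ_[ℓ] (Tate D ℓ)) {G : Type*} [Group G]
    (φ : G →* AddMonoid.End D) (g : G)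
    (h : IsNilpotent ((rep b φ g : Matrix (Fin r) (Fin r) ℚ_[ℓ]) - 1)) :
    (tateHom (ℓ := ℓ) φ g - 1) ^ r = 0 := by
  have h1 : IsNilpotent (LinearMap.toMatrixAlgEquiv b (tateHom φ g - 1)) := by
    obtain ⟨k, hk⟩ := h
    refine ⟨k, ?_⟩
    have hinj : Function.Injective (RingHom.mapMatrix (m := Fin r) (algebraMap ℤ_[ℓ] ℚ_[ℓ])) := by
      intro A B hAB
      refine Matrix.ext fun i j => Subtype.ext ?_
      exact congrFun (congrFun hAB i) j
    have h1 : (RingHom.mapMatrix (algebraMap ℤ_[ℓ] ℚ_[ℓ]))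
        (LinearMap.toMatrixAlgEquiv b (tateHom φ g - 1)) = rep b φ g - 1 := by
      rw [map_sub (LinearMap.toMatrixAlgEquiv b), map_one (LinearMap.toMatrixAlgEquiv b),
        map_sub (RingHom.mapMatrix (algebraMap ℤ_[ℓ] ℚ_[ℓ])),
        map_one (RingHom.mapMatrix (algebraMap ℤ_[ℓ] ℚ_[ℓ]))]
      rfl
    apply hinj
    rw [map_zero, map_pow, h1, hk]
  have h2 : IsNilpotent (tateHom (ℓ := ℓ) φ g - 1) := by
    obtain ⟨k, hk⟩ := h1
    refine ⟨k, (LinearMap.toMatrixAlgEquiv b).injective ?_⟩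
    rw [map_pow, hk, map_zero]
  have : Module.Free ℤ_[ℓ] (Tate D ℓ) := Module.Free.of_basis b
  have : Module.Finite ℤ_[ℓ] (Tate D ℓ) := Module.Finite.of_basis b
  have h3 := LinearMap.aeval_self_charpoly (tateHom (ℓ := ℓ) φ g - 1)
  rw [h2.charpoly_eq_X_pow_finrank, finrank_eq_card_basis b, Fintype.card_fin, map_pow,
    Polynomial.aeval_X] at h3
  exact h3

end Rep

section Main

variable {ℓ : ℕ} {G : Type*} [Group G] [TopologicalSpace G] [IsTopologicalGroup G]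
    {D : Type*} [AddCommGroup D] (φ : G →* AddMonoid.End D)

omit [IsTopologicalGroup G] in
theorem exists_fix (hcont : ∀ x : D, ∃ U : OpenSubgroup G, ∀ g ∈ U, φ g x = x) {s : Set D}
    (hs : s.Finite) : ∃ U : OpenSubgroup G, ∀ g ∈ U, ∀ x ∈ s, φ g x = x := by
  induction s, hs using Set.Finite.induction_on with
  | empty => exact ⟨⊤, fun g _ x hx => absurd hx (Set.notMem_empty x)⟩
  | @insert a s _ _ ih =>
    obtain ⟨U, hU⟩ := ih
    obtain ⟨V, hV⟩ := hcont a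
    refine ⟨U ⊓ V, fun g hg x hx => ?_⟩
    rcases hx with rfl | hx
    · exact hV g hg.2
    · exact hU g hg.1 x hx

variable [Fact ℓ.Prime]

theorem continuous_val_rep {r : ℕ} (b : Basis (Fin r) ℤ_[ℓ] (Tate D ℓ))
    (hfin : {x : D | ℓ • x = 0}.Finite)
    (hcont : ∀ x : D, ∃ U : OpenSubgroup G, ∀ g ∈ U, φ g x = x) :
    Continuous fun g => (rep b φ g : Matrix (Fin r) (Fin r) ℚ_[ℓ]) := by
  refine continuous_matrix fun i j => ?_
  simp only [rep_apply_apply]
  rw [continuous_iff_continuousAt]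
  intro g₀
  rw [ContinuousAt, Metric.tendsto_nhds]
  intro ε hε
  obtain ⟨k, hk⟩ : ∃ k : ℕ, (ℓ : ℝ) ^ (-(k : ℤ)) < ε := PadicInt.exists_pow_neg_lt ℓ hε
  have hfin' : {x : D | ℓ ^ k • x = 0}.Finite := Set.finite_coe_iff.mp (finite_tors hfin k)
  obtain ⟨U, hU⟩ := exists_fix φ hcont hfin'
  have hmem : {g | g₀⁻¹ * g ∈ U} ∈ nhds g₀ := by
    refine (U.isOpen.preimage (continuous_const_mul g₀⁻¹)).mem_nhds ?_
    change g₀⁻¹ * g₀ ∈ U
    rw [inv_mul_cancel]
    exact U.one_mem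
  filter_upwards [hmem] with g hg
  obtain ⟨y, hy⟩ : ∃ y : Tate D ℓ, (ℓ : ℤ_[ℓ]) ^ k • y = tateHom φ (g₀⁻¹ * g) (b j) - b j := by
    refine exists_smul_eq _ (Subtype.ext ?_)
    change φ (g₀⁻¹ * g) ((b j).1 k).1 - ((b j).1 k).1 = 0
    rw [hU _ hg _ ((b j).1 k).2, sub_self]
  have h1 : tateHom φ g (b j) - tateHom φ g₀ (b j) = (ℓ : ℤ_[ℓ]) ^ k • tateHom φ g₀ y := by
    rw [← map_smul, hy, map_sub, ← Module.End.mul_apply, ← map_mul, mul_inv_cancel_left]
  rw [dist_eq_norm, ← PadicInt.coe_sub, ← Finsupp.sub_apply, ← map_sub, h1, map_smul,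
    Finsupp.smul_apply, smul_eq_mul]
  refine lt_of_le_of_lt ?_ hk
  rw [← PadicInt.norm_def, norm_mul, PadicInt.norm_p_pow]
  have hp : (0 : ℝ) < ℓ := Nat.cast_pos.mpr (Fact.out : ℓ.Prime).pos
  exact mul_le_of_le_one_right (zpow_nonneg hp.le _) (PadicInt.norm_le_one _)

theorem continuous_rep {r : ℕ} (b : Basis (Fin r) ℤ_[ℓ] (Tate D ℓ))
    (hfin : {x : D | ℓ • x = 0}.Finite)
    (hcont : ∀ x : D, ∃ U : OpenSubgroup G, ∀ g ∈ U, φ g x = x) :
    Continuous (rep b φ) := by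
  refine Units.continuous_iff.mpr ⟨continuous_val_rep φ b hfin hcont, ?_⟩
  refine ((continuous_val_rep φ b hfin hcont).comp continuous_inv).congr fun g => ?_
  rw [Function.comp_apply, map_inv]

/-- **Uniform quasi-unipotence of cofinite `ℓ`-torsion representations.** -/
theorem uniform_quasiUnipotent (ℓ : ℕ) [Fact ℓ.Prime] {G : Type*} [Group G] [TopologicalSpace G]
    [IsTopologicalGroup G] [CompactSpace G] (I : Subgroup G)
    (hI : ∀ (n : ℕ) (ρ : G →* Matrix.GeneralLinearGroup (Fin n) (Padic ℓ)), Continuous ρ →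
      ∃ I₁ : OpenSubgroup G, ∀ σ : G, σ ∈ I₁ → σ ∈ I →
        IsNilpotent ((ρ σ : Matrix (Fin n) (Fin n) (Padic ℓ)) - 1))
    {D : Type*} [AddCommGroup D] (φ : G →* AddMonoid.End D)
    (htor : ∀ x : D, ∃ ν : ℕ, ℓ ^ ν • x = 0) (hfin : {x : D | ℓ • x = 0}.Finite)
    (hcont : ∀ x : D, ∃ U : OpenSubgroup G, ∀ g ∈ U, φ g x = x) :
    ∃ N M : ℕ, 0 < N ∧ ∀ σ ∈ I, (φ σ ^ N - 1) ^ M = 0 := by
  have := finite_tate (ℓ := ℓ) hfin
  have := free_tate (ℓ := ℓ) hfin
  let b := Module.finBasis ℤ_[ℓ] (Tate D ℓ)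
  set r := finrank ℤ_[ℓ] (Tate D ℓ) with hr
  obtain ⟨I₁, hI₁⟩ := hI r (rep b φ) (continuous_rep φ b hfin hcont)
  have hidx : (I₁ : Subgroup G).index ≠ 0 := by
    have : Finite (G ⧸ (I₁ : Subgroup G)) := Subgroup.quotient_finite_of_isOpen _ I₁.isOpen
    exact (Subgroup.finiteIndex_of_finite_quotient (H := (I₁ : Subgroup G))).index_ne_zero
  set N₁ := (I₁ : Subgroup G).index.factorial with hN₁
  have hmem₁ : ∀ σ : G, σ ^ N₁ ∈ I₁ := by
    intro σ
    obtain ⟨n, hn0, hn, h⟩ := Subgroup.exists_pow_mem_of_index_ne_zero hidx σ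
    obtain ⟨c, hc⟩ := Nat.dvd_factorial hn0 hn
    rw [hN₁, hc, pow_mul]
    exact (I₁ : Subgroup G).pow_mem h c
  obtain ⟨n, hn⟩ := exists_divisible htor hfin
  have := finite_tors hfin n
  have : Finite (AddMonoid.End (tors D ℓ n)) := DFunLike.finite _
  let ψ : G →* (AddMonoid.End (tors D ℓ n))ˣ := MonoidHom.toHomUnits
    { toFun := fun g => res (φ g) n
      map_one' := by
        ext x
        change φ 1 x.1 = x.1
        rw [map_one]
        rfl
      map_mul' := fun g h => by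
        ext x
        change φ (g * h) x.1 = φ g (φ h x.1)
        rw [map_mul]
        rfl }
  set N₂ := Nat.card (AddMonoid.End (tors D ℓ n))ˣ with hN₂
  have hfix : ∀ (g : G) (x : D), ℓ ^ n • x = 0 → φ (g ^ N₂) x = x := by
    intro g x hx
    have h1 : ψ (g ^ N₂) = 1 := by rw [map_pow, pow_card_eq_one']
    have h2 := congrArg (fun u : (AddMonoid.End (tors D ℓ n))ˣ => ((u : AddMonoid.End (tors D ℓ n)) ⟨x, hx⟩).1) h1
    exact h2
  refine ⟨N₁ * N₂, r + 1, Nat.mul_pos (Nat.factorial_pos _) Nat.card_pos, fun σ hσ => ?_⟩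
  have hnil : (tateHom (ℓ := ℓ) φ (σ ^ N₁) - 1) ^ r = 0 :=
    sub_one_pow_eq_zero b φ _ (hI₁ _ (hmem₁ σ) (I.pow_mem hσ _))
  have hkill : ∀ x : D, ((φ σ ^ N₁ - 1) ^ r) (ℓ ^ n • x) = 0 := by
    intro x
    obtain ⟨t, ht, m, hm⟩ := exists_lift hn htor x
    have h1 := tateHom_sub_one_pow_apply φ (σ ^ N₁) r ⟨t, ht⟩ m
    rw [hnil, map_pow] at h1
    rw [← hm]
    exact h1.symm
  have hkill' : ∀ x : D, ((φ σ ^ (N₁ * N₂) - 1) ^ r) (ℓ ^ n • x) = 0 := fun x =>
    pow_mul_sub_one_pow_apply _ N₁ N₂ r (hkill x)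
  refine AddMonoidHom.ext fun x => ?_
  rw [pow_succ']
  change (φ σ ^ (N₁ * N₂)) (((φ σ ^ (N₁ * N₂) - 1) ^ r) x) - ((φ σ ^ (N₁ * N₂) - 1) ^ r) x = 0
  rw [sub_eq_zero, ← map_pow, pow_mul]
  refine hfix _ _ ?_
  rw [← map_nsmul, ← pow_mul, map_pow]
  exact hkill' x

end Main

end Groth.Agent.Sga7.H112.CofiniteRep
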