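import Groth.Agent.Sga7.H112.EisBasis
import Groth.Agent.CalgA.CoeffRing
import Groth.Agent.Flat2G.SmoothRegNorm
import Groth.Agent.Sga7.H509.PolyBase
import Groth.Agent.S0595
import Mathlib.RingTheory.AdjoinRoot
import Mathlib.RingTheory.Flat.Basic
import Mathlib.RingTheory.TensorProduct.Quotient
import Mathlib.Algebra.Polynomial.Lifts

/-!
# Models of complete discrete valuation rings of mixed characteristic

`R` a complete discrete valuation ring of characteristic zero and residue characteristic `p`, `A₀ ⊂ R` of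
finite type over `ℤ` containing the uniformizer `π`, `0 ≠ g ∈ A₀`: there are a ring `B` of finite type over
`ℤ` and `A₀ → B → R` such that `g = (unit) π^m` in `B`, `π` is a nonzerodivisor of `B` and `B/π` is regular.
-/

set_option autoImplicit false

universe u

namespace Groth.Agent.Sga7.H112.Eis

open IsLocalRing Polynomial TensorProduct

section Adj

variable {S : Type u} [CommRing S] (p : ℕ) (e : ℕ) (c : S[X])

/-- The polynomial `T^e - p c(T)`. -/
noncomputable def eis : S[X] := X ^ e - C (p : S) * c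

theorem eis_map {S' : Type u} [CommRing S'] (g : S →+* S') : (eis p e c).map g = eis p e (c.map g) := by
  simp [eis, Polynomial.map_sub, Polynomial.map_mul, Polynomial.map_pow]

variable {p e c}

theorem monic_eis (hc : c.degree < e) : (eis p e c).Monic := by
  refine monic_X_pow_sub (lt_of_le_of_lt ?_ hc)
  refine (degree_mul_le _ _).trans ?_
  calc (C (p : S)).degree + c.degree ≤ 0 + c.degree := by gcongr; exact degree_C_le
    _ = c.degree := zero_add _

theorem root_pow : (AdjoinRoot.root (eis p e c)) ^ e =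
    (p : AdjoinRoot (eis p e c)) * AdjoinRoot.mk (eis p e c) c := by
  have h1 : AdjoinRoot.mk (eis p e c) (eis p e c) = 0 := AdjoinRoot.mk_self
  have h2 : AdjoinRoot.mk (eis p e c) (X ^ e - C (p : S) * c) = 0 := h1
  rw [map_sub, map_pow, map_mul, AdjoinRoot.mk_X, sub_eq_zero, AdjoinRoot.mk_C, map_natCast] at h2
  exact h2

theorem mk_eq (g : S[X]) (f : S[X]) : AdjoinRoot.mk g f =
    AdjoinRoot.root g * AdjoinRoot.mk g (divX f) + AdjoinRoot.of g (f.coeff 0) := by
  conv_lhs => rw [← X_mul_divX_add f]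
  rw [map_add, map_mul, AdjoinRoot.mk_X, AdjoinRoot.mk_C]

theorem root_mem_nonZeroDivisors (he : 0 < e) (hc : c.degree < e) (hc0 : IsUnit (c.coeff 0))
    (hp : IsSMulRegular S (p : S)) :
    AdjoinRoot.root (eis p e c) ∈ nonZeroDivisors (AdjoinRoot (eis p e c)) := by
  set B := AdjoinRoot (eis p e c)
  rw [mem_nonZeroDivisors_iff_right]
  intro y hy
  have hfree : Module.Free S B := Module.Free.of_basis (AdjoinRoot.powerBasis' (monic_eis hc)).basis
  have h1 : (p : B) * (AdjoinRoot.mk (eis p e c) c * y) = 0 := by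
    have h0 : AdjoinRoot.root (eis p e c) ^ e * y =
        AdjoinRoot.root (eis p e c) ^ (e - 1) * (y * AdjoinRoot.root (eis p e c)) := by
      rw [mul_comm y, ← mul_assoc, pow_sub_one_mul he.ne']
    rw [← mul_assoc, ← root_pow, h0, hy, mul_zero]
  rw [mk_eq, add_mul, mul_right_comm, mul_comm _ y, hy, zero_mul, zero_add, mul_left_comm] at h1
  have h2 : (p : B) * y = 0 := by
    have hu : IsUnit (AdjoinRoot.of (eis p e c) (c.coeff 0)) := hc0.map _
    exact (hu.mul_right_eq_zero).mp h1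
  have h3 : IsSMulRegular B (algebraMap S B (p : S)) := IsSMulRegular.of_flat hp
  apply h3
  change algebraMap S B (p : S) * y = algebraMap S B (p : S) * 0
  rw [map_natCast, h2, mul_zero]

/-- `B/(root) = S/p`. -/
theorem nonempty_quotient (he : 0 < e) (hc0 : IsUnit (c.coeff 0)) :
    Nonempty ((S ⧸ Ideal.span {(p : S)}) ≃+*
      (AdjoinRoot (eis p e c) ⧸ Ideal.span {AdjoinRoot.root (eis p e c)})) := by
  set g := eis p e c with hg
  let ψ : S →+* (AdjoinRoot g ⧸ Ideal.span {AdjoinRoot.root g}) :=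
    (Ideal.Quotient.mk _).comp (AdjoinRoot.of g)
  have hsurj : Function.Surjective ψ := by
    intro y
    obtain ⟨y, rfl⟩ := Ideal.Quotient.mk_surjective y
    obtain ⟨f, rfl⟩ := AdjoinRoot.mk_surjective y
    refine ⟨f.coeff 0, ?_⟩
    rw [mk_eq g f, map_add, map_mul, Ideal.Quotient.eq_zero_iff_mem.mpr (Ideal.mem_span_singleton_self _),
      zero_mul, zero_add]
    rfl
  have hker : RingHom.ker ψ = Ideal.span {(p : S)} := by
    ext s
    rw [RingHom.mem_ker, Ideal.mem_span_singleton]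
    constructor
    · intro hs
      have h1 : AdjoinRoot.of g s ∈ Ideal.span {AdjoinRoot.root g} := Ideal.Quotient.eq_zero_iff_mem.mp hs
      rw [Ideal.mem_span_singleton] at h1
      obtain ⟨y, hy⟩ := h1
      obtain ⟨f, rfl⟩ := AdjoinRoot.mk_surjective y
      have h2 : AdjoinRoot.mk g (C s) = AdjoinRoot.mk g (X * f) := by
        rw [AdjoinRoot.mk_C, hy, map_mul, AdjoinRoot.mk_X]
      rw [AdjoinRoot.mk_eq_mk] at h2
      obtain ⟨q, hq⟩ := h2
      have h3 := congrArg (fun r => r.coeff 0) hq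
      simp only [coeff_sub, coeff_C_zero, mul_coeff_zero, coeff_X_zero, zero_mul, sub_zero, hg, eis,
        coeff_X_pow, he.ne, if_false, zero_sub] at h3
      exact ⟨-(c.coeff 0 * q.coeff 0), by rw [h3]; ring⟩
    · rintro ⟨t, rfl⟩
      have h1 : ψ (p : S) * ψ (c.coeff 0) = 0 := by
        rw [← map_mul]
        change Ideal.Quotient.mk _ (AdjoinRoot.of g (p * c.coeff 0)) = 0
        rw [Ideal.Quotient.eq_zero_iff_mem, Ideal.mem_span_singleton, map_mul, map_natCast]
        have h2 := root_pow (p := p) (e := e) (c := c)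
        rw [mk_eq, ← hg, mul_add] at h2
        refine ⟨AdjoinRoot.root g ^ (e - 1) - p * AdjoinRoot.mk g (divX c), ?_⟩
        rw [mul_sub, ← pow_succ', Nat.sub_add_cancel he, h2]
        ring
      rw [map_mul]
      have h3 : ψ (p : S) = 0 := (hc0.map ψ).mul_left_eq_zero.mp h1
      rw [h3, zero_mul]
  exact ⟨(Ideal.quotEquivOfEq hker.symm).trans (RingHom.quotientKerEquivOfSurjective hsurj)⟩

end Adj

/-- Smooth over `ℤ`: reduction modulo `p` is regular. -/
theorem isRegularRing_quotient_natCast {Z : Type u} [CommRing Z] (eZ : Z ≃+* ℤ) (p : ℕ) [hp : Fact p.Prime]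
    (S : Type u) [CommRing S] [Algebra Z S] [Algebra.Smooth Z S] :
    IsRegularRing (S ⧸ Ideal.span {(p : S)}) := by
  have hmax : (Ideal.span {(p : Z)}).IsMaximal := by
    have h1 : (Ideal.span {(p : ℤ)}).IsMaximal :=
      PrincipalIdealRing.isMaximal_of_irreducible (Nat.prime_iff_prime_int.mp hp.out).irreducible
    have h2 : Ideal.span {(p : Z)} = (Ideal.span {(p : ℤ)}).comap (eZ : Z →+* ℤ) := by
      ext x
      rw [Ideal.mem_comap, Ideal.mem_span_singleton, Ideal.mem_span_singleton]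
      constructor
      · rintro ⟨y, rfl⟩
        exact ⟨eZ y, by simp⟩
      · rintro ⟨y, hy⟩
        refine ⟨eZ.symm y, eZ.injective ?_⟩
        simpa using hy
    rw [h2]
    exact Ideal.comap_isMaximal_of_surjective _ eZ.surjective
  let _ : Field (Z ⧸ Ideal.span {(p : Z)}) := Ideal.Quotient.field _
  have h2 : IsRegularRing (S ⊗[Z] (Z ⧸ Ideal.span {(p : Z)})) := by
    have : Algebra.Smooth (Z ⧸ Ideal.span {(p : Z)}) ((Z ⧸ Ideal.span {(p : Z)}) ⊗[Z] S) := inferInstance
    have h3 : IsRegularRing ((Z ⧸ Ideal.span {(p : Z)}) ⊗[Z] S) :=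
      Flat2G.SmoothRegNorm.isRegularRing_of_smooth (R := Z ⧸ Ideal.span {(p : Z)})
    exact IsRegularRing.of_ringEquiv (Algebra.TensorProduct.comm Z _ _).toRingEquiv
  have h3 : IsRegularRing (S ⧸ (Ideal.span {(p : Z)}).map (algebraMap Z S)) :=
    IsRegularRing.of_ringEquiv
      (Algebra.TensorProduct.quotIdealMapEquivTensorQuot S (Ideal.span {(p : Z)})).symm.toRingEquiv
  have h4 : (Ideal.span {(p : Z)}).map (algebraMap Z S) = Ideal.span {(p : S)} := by
    rw [Ideal.map_span, Set.image_singleton, map_natCast]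
  exact h4 ▸ h3

section Main

variable (R : Type u) [CommRing R] [IsDomain R] [IsDiscreteValuationRing R]
  [IsAdicComplete (maximalIdeal R) R] (p : ℕ) [Fact p.Prime] [CharP (ResidueField R) p] [CharZero R]
  (π : R) (hπ : Irreducible π)

include hπ in
/-- `R = Λ[T]/(T^e - p c(T))` for a Cohen ring `Λ`. -/
theorem exists_presentation : ∃ (Λ : Type u) (_ : CommRing Λ) (_ : IsDomain Λ)
    (_ : IsDiscreteValuationRing Λ) (f : Λ →+* R) (e : ℕ) (c : Λ[X]), Irreducible (p : Λ) ∧ 0 < e ∧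
      c.degree < e ∧ IsUnit (c.coeff 0) ∧ (eis p e c).eval₂ f π = 0 ∧
      (∀ F : Λ[X], F.degree < e → F.eval₂ f π = 0 → F = 0) ∧ (∀ x : R, ∃ F : Λ[X], F.eval₂ f π = x) := by
  obtain ⟨Λ, i1, i2, i3, f, hΛc, hΛ, hf⟩ := Groth.Agent.CalgA.CoeffRing.exists_cohenRing_map p R
  have hp0 : (p : R) ≠ 0 := Nat.cast_ne_zero.mpr (Fact.out : p.Prime).ne_zero
  have hpm : (p : R) ∈ maximalIdeal R := by
    rw [← residue_eq_zero_iff, map_natCast, CharP.cast_eq_zero]
  obtain ⟨e, u, hu⟩ := IsDiscreteValuationRing.eq_unit_mul_pow_irreducible hp0 hπ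
  have he : 0 < e := by
    rw [Nat.pos_iff_ne_zero]
    rintro rfl
    rw [pow_zero, mul_one] at hu
    rw [hu, mem_maximalIdeal, mem_nonunits_iff] at hpm
    exact hpm u.isUnit
  obtain ⟨c, hc, hcu⟩ := EisBasis.exists_eval₂_eq hΛ f hf π hπ e u hu he (↑u⁻¹ : R)
  refine ⟨Λ, i1, i2, i3, f, e, c, ?_, he, hc, ?_, ?_, EisBasis.eq_zero hΛ f π hπ e u hu he, fun x => ?_⟩
  · rw [IsDiscreteValuationRing.irreducible_iff_uniformizer]
    exact hΛ
  · by_contra h
    have h1 : (p : Λ) ∣ c.coeff 0 := by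
      rwa [← Ideal.mem_span_singleton, ← hΛ, mem_maximalIdeal, mem_nonunits_iff]
    have h2 : π ∣ (↑u⁻¹ : R) := by
      rw [← hcu, ← X_mul_divX_add c, eval₂_add, eval₂_mul, eval₂_X, eval₂_C]
      refine dvd_add (dvd_mul_right _ _) ?_
      exact (dvd_pow_self π he.ne').trans (EisBasis.pow_dvd_of_dvd f π e u hu h1)
    exact hπ.not_isUnit (isUnit_of_dvd_unit h2 (u⁻¹).isUnit)
  · rw [eis, eval₂_sub, eval₂_mul, eval₂_C, eval₂_X_pow, hcu, map_natCast, hu]
    have : (u : R) * ↑u⁻¹ = 1 := Units.mul_inv u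
    linear_combination (-π ^ e) * this
  · obtain ⟨F, -, hF⟩ := EisBasis.exists_eval₂_eq hΛ f hf π hπ e u hu he x
    exact ⟨F, hF⟩

include p hπ in
/-- **Models in mixed characteristic.** -/
theorem model_mixed (A₀ : Subalgebra ℤ R) (hA : A₀.FG) (hπA : π ∈ A₀) (g : A₀) (hg : g ≠ 0) :
    ∃ (B : Type u) (_ : CommRing B) (a : A₀ →+* B) (b : B →+* R), Algebra.FiniteType ℤ B ∧
      b.comp a = A₀.subtype ∧ (∃ (m : ℕ) (v : Bˣ), a g = v * a ⟨π, hπA⟩ ^ m) ∧
      a ⟨π, hπA⟩ ∈ nonZeroDivisors B ∧ IsRegularRing (B ⧸ Ideal.span {a ⟨π, hπA⟩}) := by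
  classical
  obtain ⟨Λ, i1, i2, i3, f, e, c, hp, he, hc, hc0, hE, huniq, hex⟩ := exists_presentation R p π hπ
  obtain ⟨Z, iZ, ⟨eZ⟩⟩ : ∃ (Z : Type u) (_ : CommRing Z), Nonempty (Z ≃+* ℤ) :=
    ⟨ULift.{u} ℤ, inferInstance, ⟨ULift.ringEquiv⟩⟩
  have : IsDomain Z := eZ.toMulEquiv.isDomain ℤ
  have : IsNoetherianRing Z := isNoetherianRing_of_ringEquiv ℤ eZ.symm
  let _ : Algebra Z Λ := ((Int.castRingHom Λ).comp (eZ : Z →+* ℤ)).toAlgebra
  have hg0 : (g : R) ≠ 0 := fun h => hg (Subtype.ext h)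
  obtain ⟨m, v, hv⟩ := IsDiscreteValuationRing.eq_unit_mul_pow_irreducible hg0 hπ
  choose L hL using hex
  obtain ⟨s, hs⟩ := hA
  obtain ⟨c', hc'⟩ := hc0.exists_right_inv
  let T : Finset R := s ∪ {(v : R), (↑v⁻¹ : R)}
  let K : Finset Λ := {c'} ∪ c.coeffs ∪ T.biUnion fun x => (L x).coeffs
  let D : Subalgebra Z Λ := Algebra.adjoin Z (K : Set Λ)
  have hKD : ∀ x ∈ K, x ∈ D := fun x hx => Algebra.subset_adjoin hx
  let ιD : D →+* Λ := D.val.toRingHom
  have hιD : Function.Injective ιD := Subtype.val_injective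
  have hlift : ∀ F : Λ[X], F.coeffs ⊆ K → ∃ F' : D[X], F'.map ιD = F := by
    intro F hF
    rw [← mem_lifts, lifts_iff_coeff_lifts]
    intro n
    by_cases h0 : F.coeff n = 0
    · exact ⟨0, by rw [h0, map_zero]⟩
    · exact ⟨⟨F.coeff n, hKD _ (hF (coeff_mem_coeffs h0))⟩, rfl⟩
  obtain ⟨cD, hcD⟩ := hlift c (fun x hx => by simp [K, hx])
  have hcD0 : IsUnit (cD.coeff 0) := by
    refine IsUnit.of_mul_eq_one (⟨c', hKD _ (by simp [K])⟩ : D) (hιD ?_)
    rw [map_mul, map_one, ← coeff_map, hcD]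
    exact hc'
  -- Popescu
  have : CharZero Λ := by
    refine charZero_of_inj_zero fun n hn => ?_
    have h1 := congrArg f hn
    rw [map_natCast, map_zero] at h1
    exact_mod_cast h1
  have hreg : CAlg.IsRegularHom Z Λ := Groth.Agent.Sga7.H509.PolyBase.isRegularHom_cohen eZ Λ p hp
  have : Algebra.FiniteType Z D := (Subalgebra.fg_iff_finiteType _).mp (Subalgebra.fg_adjoin_finset K)
  have : Algebra.FinitePresentation Z D := Algebra.FinitePresentation.of_finiteType.mp this
  obtain ⟨B₀, j1, j2, hsm, g₀, h₀, hgh⟩ := Groth.Agent.S0595.result Z Λ hreg D D.val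
  let c₁ : B₀[X] := cD.map (g₀ : D →+* B₀)
  have hc₁ : c₁.degree < e := by
    refine lt_of_le_of_lt degree_map_le ?_
    rwa [← hcD, degree_map_eq_of_injective hιD] at hc
  have hc₁0 : IsUnit (c₁.coeff 0) := by
    rw [coeff_map]
    exact hcD0.map _
  have hcomp : (h₀ : B₀ →+* Λ).comp (g₀ : D →+* B₀) = ιD := by
    ext x
    exact DFunLike.congr_fun hgh x
  let D' := AdjoinRoot (eis p e cD)
  let B := AdjoinRoot (eis p e c₁)
  have hED : (eis p e cD).eval₂ (f.comp ιD) π = 0 := by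
    rw [← eval₂_map, eis_map, hcD, hE]
  let ι : D' →+* R := AdjoinRoot.lift (f.comp ιD) π hED
  have hEB : (eis p e cD).eval₂ ((AdjoinRoot.of (eis p e c₁)).comp (g₀ : D →+* B₀))
      (AdjoinRoot.root (eis p e c₁)) = 0 := by
    rw [← eval₂_map, eis_map]
    exact AdjoinRoot.eval₂_root _
  let μ : D' →+* B := AdjoinRoot.lift ((AdjoinRoot.of (eis p e c₁)).comp (g₀ : D →+* B₀))
    (AdjoinRoot.root (eis p e c₁)) hEB
  have hEb : (eis p e c₁).eval₂ (f.comp (h₀ : B₀ →+* Λ)) π = 0 := by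
    rw [← eval₂_map, eis_map, Polynomial.map_map, hcomp, hcD, hE]
  let b : B →+* R := AdjoinRoot.lift (f.comp (h₀ : B₀ →+* Λ)) π hEb
  have hbμ : b.comp μ = ι := by
    refine AdjoinRoot.ringHom_ext ?_ ?_
    · ext x
      change b (μ (AdjoinRoot.of _ x)) = ι (AdjoinRoot.of _ x)
      rw [AdjoinRoot.lift_of, AdjoinRoot.lift_of]
      change b (AdjoinRoot.of _ (g₀ x)) = _
      rw [AdjoinRoot.lift_of]
      exact congrArg f (RingHom.congr_fun hcomp x)
    · change b (μ (AdjoinRoot.root _)) = ι (AdjoinRoot.root _)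
      rw [AdjoinRoot.lift_root, AdjoinRoot.lift_root, AdjoinRoot.lift_root]
  have hι : Function.Injective ι := by
    rw [injective_iff_map_eq_zero]
    intro y hy
    obtain ⟨G, rfl⟩ := AdjoinRoot.mk_surjective y
    have hmon : (eis p e cD).Monic := by
      refine monic_eis ?_
      rwa [← hcD, degree_map_eq_of_injective hιD] at hc
    have hG := modByMonic_add_div G (eis p e cD)
    have h1 : ι (AdjoinRoot.mk _ (G %ₘ eis p e cD)) = 0 := by
      rw [← hG, map_add, map_mul, AdjoinRoot.mk_self, zero_mul, add_zero] at hy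
      exact hy
    rw [AdjoinRoot.lift_mk, ← eval₂_map] at h1
    have hnt : Nontrivial D := inferInstance
    have h2 := huniq _ (by
      rw [degree_map_eq_of_injective hιD]
      refine lt_of_lt_of_le (degree_modByMonic_lt G hmon) ?_
      have h3 : (eis p e cD).degree = e := by
        rw [eis, degree_sub_eq_left_of_degree_lt, degree_X_pow]
        rw [degree_X_pow]
        refine lt_of_le_of_lt (degree_mul_le _ _) ?_
        rw [← hcD, degree_map_eq_of_injective hιD] at hc
        calc (C (p : D)).degree + cD.degree ≤ 0 + cD.degree := by gcongr; exact degree_C_le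
          _ = cD.degree := zero_add _
          _ < e := hc
      exact h3.le) h1
    have h3 : G %ₘ eis p e cD = 0 := (Polynomial.map_eq_zero_iff hιD).mp h2
    rw [← hG, h3, zero_add, map_mul, AdjoinRoot.mk_self, zero_mul]
  have hrange : ∀ x ∈ T, x ∈ ι.range := by
    intro x hx
    obtain ⟨F', hF'⟩ := hlift (L x) (fun y hy => by
      simp only [K, Finset.mem_union, Finset.mem_biUnion]
      exact Or.inr ⟨x, hx, hy⟩)
    refine ⟨AdjoinRoot.mk _ F', ?_⟩
    rw [AdjoinRoot.lift_mk, ← eval₂_map, hF', hL]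
  have hA₀ : ∀ x : A₀, (x : R) ∈ ι.range := by
    have h1 : A₀ ≤ subalgebraOfSubring ι.range := by
      rw [← hs]
      refine Algebra.adjoin_le fun x hx => ?_
      exact hrange x (Finset.mem_union_left _ hx)
    exact fun x => h1 x.2
  let eι : D' ≃+* ι.range := RingEquiv.ofBijective ι.rangeRestrict
    ⟨fun x y h => hι (congrArg Subtype.val h), ι.rangeRestrict_surjective⟩
  let a₀ : A₀ →+* D' := (eι.symm : ι.range →+* D').comp
    ((SubringClass.subtype A₀).codRestrict ι.range hA₀)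
  have ha₀ : ∀ x : A₀, ι (a₀ x) = x := by
    intro x
    exact congrArg Subtype.val (eι.apply_symm_apply ⟨x, hA₀ x⟩)
  have haπ : a₀ ⟨π, hπA⟩ = AdjoinRoot.root _ := by
    apply hι
    rw [ha₀, AdjoinRoot.lift_root]
  have haπ' : μ (a₀ ⟨π, hπA⟩) = AdjoinRoot.root (eis p e c₁) := by
    rw [haπ, AdjoinRoot.lift_root]
  refine ⟨B, inferInstance, μ.comp a₀, b, ?_, ?_, ⟨m, ?_⟩, ?_, ?_⟩
  · have h1 : (algebraMap Z B₀).FiniteType := by
      rw [RingHom.finiteType_algebraMap]
      infer_instance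
    have h2 : (AdjoinRoot.of (eis p e c₁)).FiniteType := by
      change (algebraMap B₀ B).FiniteType
      rw [RingHom.finiteType_algebraMap]
      exact Algebra.FiniteType.of_surjective (AdjoinRoot.mkₐ (eis p e c₁)) AdjoinRoot.mk_surjective
    have h3 : ((eZ.symm : ℤ →+* Z)).FiniteType := RingHom.FiniteType.of_surjective _ eZ.symm.surjective
    rw [← RingHom.finiteType_algebraMap]
    have h4 : ∀ φ : ℤ →+* B, φ.FiniteType := by
      intro φ
      rw [RingHom.ext_int φ (((AdjoinRoot.of (eis p e c₁)).comp (algebraMap Z B₀)).comp (eZ.symm : ℤ →+* Z))]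
      exact (h2.comp h1).comp h3
    exact h4 _
  · ext x
    change b (μ (a₀ x)) = x
    rw [← RingHom.comp_apply, hbμ, ha₀]
  · obtain ⟨v', hv'⟩ := hrange v (by simp [T])
    obtain ⟨w', hw'⟩ := hrange (↑v⁻¹ : R) (by simp [T])
    have h1 : v' * w' = 1 := by
      apply hι
      rw [map_mul, hv', hw', map_one, Units.mul_inv]
    have h2 : w' * v' = 1 := by rw [mul_comm, h1]
    refine ⟨Units.map (μ : D' →* B) ⟨v', w', h1, h2⟩, ?_⟩
    change μ (a₀ g) = μ v' * (μ (a₀ ⟨π, hπA⟩)) ^ m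
    rw [← map_pow, ← map_mul]
    congr 1
    apply hι
    rw [ha₀, hv, map_mul, map_pow, ha₀, hv']
  · change μ (a₀ ⟨π, hπA⟩) ∈ _
    rw [haπ']
    refine root_mem_nonZeroDivisors he hc₁ hc₁0 ?_
    have h1 : IsSMulRegular Z (p : Z) := by
      refine IsSMulRegular.of_ne_zero ?_
      intro h
      have h2 := congrArg eZ h
      rw [map_natCast, map_zero] at h2
      exact (Fact.out : p.Prime).ne_zero (by exact_mod_cast h2)
    have h2 : IsSMulRegular B₀ (algebraMap Z B₀ (p : Z)) := IsSMulRegular.of_flat h1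
    rwa [map_natCast] at h2
  · change IsRegularRing (B ⧸ Ideal.span {μ (a₀ ⟨π, hπA⟩)})
    rw [haπ']
    obtain ⟨ε⟩ := nonempty_quotient (p := p) he hc₁0
    have := isRegularRing_quotient_natCast eZ p B₀
    exact IsRegularRing.of_ringEquiv ε

end Main

end Groth.Agent.Sga7.H112.Eis
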