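import Groth.Agent.Ega1.LimitSystem
import Mathlib.RingTheory.DiscreteValuationRing.Basic
import Mathlib.RingTheory.AdicCompletion.Functoriality
import Mathlib.RingTheory.Filtration
import Mathlib.RingTheory.Polynomial.Basic
import Mathlib.RingTheory.LocalRing.ResidueField.Basic

/-!
# A mixed characteristic complete discrete valuation ring is an Eisenstein extension of a Cohen ring

`Λ` complete discrete valuation ring with maximal ideal `(p)`, `f : Λ → R` a ring map to a discrete
valuation ring with `p = u π^e`, surjective on residue fields: `1, π, …, π^{e-1}` is a basis of `R` over `Λ`.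
-/

set_option autoImplicit false

universe u

namespace Groth.Agent.Sga7.H112.EisBasis

open IsLocalRing Polynomial

section

variable {p : ℕ} {Λ R : Type u} [CommRing Λ] [IsDomain Λ] [IsDiscreteValuationRing Λ]
  [CommRing R] [IsDomain R] [IsDiscreteValuationRing R]
  (hΛ : maximalIdeal Λ = Ideal.span {(p : Λ)}) (f : Λ →+* R)
  (hf : Function.Surjective ((residue R).comp f)) (π : R) (hπ : Irreducible π)

include hπ in
theorem dvd_iff_residue (x : R) : π ∣ x ↔ residue R x = 0 := by
  rw [residue_eq_zero_iff, (IsDiscreteValuationRing.irreducible_iff_uniformizer _).1 hπ,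
    Ideal.mem_span_singleton]

omit [IsDomain Λ] [IsDiscreteValuationRing Λ] in
include hf hπ in
theorem exists_approx (x : R) (n : ℕ) :
    ∃ F : Λ[X], F.degree < n ∧ π ^ n ∣ x - F.eval₂ f π := by
  induction n with
  | zero => exact ⟨0, by simp, by simp⟩
  | succ n ih =>
    obtain ⟨F, hF, y, hy⟩ := ih
    obtain ⟨b, hb⟩ := hf (residue R y)
    obtain ⟨z, hz⟩ := (dvd_iff_residue π hπ (y - f b)).mpr (by
      rw [map_sub, sub_eq_zero]
      exact hb.symm)
    refine ⟨F + C b * X ^ n, ?_, z, ?_⟩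
    · rw [← mem_degreeLT] at hF ⊢
      refine Submodule.add_mem _ (degreeLT_mono (Nat.le_succ n) hF) ?_
      rw [mem_degreeLT]
      refine lt_of_le_of_lt (degree_C_mul_X_pow_le n b) ?_
      exact_mod_cast Nat.lt_succ_self n
    · rw [eval₂_add, eval₂_mul, eval₂_C, eval₂_X_pow, ← sub_sub, hy, ← mul_comm (π ^ n), ← mul_sub, hz]
      ring

variable (e : ℕ) (u : Rˣ) (hu : (p : R) = u * π ^ e)

omit [IsDomain R] [IsDiscreteValuationRing R] in
include hΛ hπ in
theorem dvd_of_dvd {a : Λ} (h : π ∣ f a) : (p : Λ) ∣ a := by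
  rw [← Ideal.mem_span_singleton, ← hΛ, mem_maximalIdeal, mem_nonunits_iff]
  intro h1
  exact hπ.not_isUnit (isUnit_of_dvd_unit h (h1.map f))

omit [IsDomain Λ] [IsDiscreteValuationRing Λ] [IsDomain R] [IsDiscreteValuationRing R] in
include hu in
theorem pow_dvd_of_dvd {a : Λ} (h : (p : Λ) ∣ a) : π ^ e ∣ f a := by
  obtain ⟨b, rfl⟩ := h
  rw [map_mul, map_natCast, hu]
  exact ⟨u * f b, by ring⟩

include hΛ hu hπ in
theorem dvd_coeff (he : 0 < e) (F : Λ[X]) (hF : F.degree < e) (h0 : F.eval₂ f π = 0) (i : ℕ) :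
    (p : Λ) ∣ F.coeff i := by
  induction i using Nat.strong_induction_on with
  | _ i ih =>
    by_cases hie : i < e
    · refine dvd_of_dvd hΛ f π hπ ?_
      rw [eval₂_eq_sum_range' f (n := e) ?_ π] at h0
      · have h1 : f (F.coeff i) * π ^ i = - ∑ j ∈ (Finset.range e).erase i, f (F.coeff j) * π ^ j := by
          rw [← Finset.add_sum_erase _ _ (Finset.mem_range.mpr hie)] at h0
          exact eq_neg_of_add_eq_zero_left h0
        have h2 : π ^ (i + 1) ∣ f (F.coeff i) * π ^ i := by
          rw [h1, dvd_neg]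
          refine Finset.dvd_sum fun j hj => ?_
          rw [Finset.mem_erase] at hj
          rcases lt_or_gt_of_ne hj.1 with hji | hji
          · refine Dvd.dvd.mul_right ?_ _
            exact (pow_dvd_pow π (by omega)).trans (pow_dvd_of_dvd f π e u hu (ih j hji))
          · exact Dvd.dvd.mul_left (pow_dvd_pow π (by omega)) _
        rw [pow_succ', mul_dvd_mul_iff_right (pow_ne_zero _ hπ.ne_zero)] at h2
        exact h2
      · by_cases hF0 : F = 0
        · rw [hF0, natDegree_zero]; exact he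
        · exact (natDegree_lt_iff_degree_lt hF0).mpr hF
    · rw [coeff_eq_zero_of_degree_lt (hF.trans_le (by exact_mod_cast not_lt.mp hie))]
      exact dvd_zero _

include hΛ hu hπ in
theorem eq_zero (he : 0 < e) (F : Λ[X]) (hF : F.degree < e) (h0 : F.eval₂ f π = 0) : F = 0 := by
  have hpR : (p : R) ≠ 0 := by
    rw [hu]
    exact mul_ne_zero u.ne_zero (pow_ne_zero _ hπ.ne_zero)
  have hpΛ : (p : Λ) ≠ 0 := fun h => hpR (by rw [← map_natCast f, h, map_zero])
  have key : ∀ k : ℕ, ∃ G : Λ[X], F = C ((p : Λ) ^ k) * G ∧ G.degree < e ∧ G.eval₂ f π = 0 := by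
    intro k
    induction k with
    | zero => exact ⟨F, by simp, hF, h0⟩
    | succ k ih =>
      obtain ⟨G, hG, hGe, hG0⟩ := ih
      obtain ⟨H, hH⟩ := (C_dvd_iff_dvd_coeff _ _).mpr (dvd_coeff hΛ f π hπ e u hu he G hGe hG0)
      refine ⟨H, by rw [hG, hH, pow_succ, C_mul, mul_assoc], ?_, ?_⟩
      · rwa [hH, degree_C_mul hpΛ] at hGe
      · rw [hH, eval₂_mul, eval₂_C, map_natCast] at hG0
        exact (mul_eq_zero.mp hG0).resolve_left hpR
  ext i
  rw [coeff_zero]
  have h1 : ∀ k, F.coeff i ∈ maximalIdeal Λ ^ k := by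
    intro k
    obtain ⟨G, hG, -, -⟩ := key k
    rw [hΛ, Ideal.span_singleton_pow, Ideal.mem_span_singleton, hG, coeff_C_mul]
    exact dvd_mul_right _ _
  have h2 : F.coeff i ∈ (⨅ k, maximalIdeal Λ ^ k : Ideal Λ) := by
    rw [Ideal.mem_iInf]; exact h1
  rwa [Ideal.iInf_pow_eq_bot_of_isLocalRing _ (Ideal.IsPrime.ne_top inferInstance), Ideal.mem_bot] at h2

include hΛ hf hu hπ in
theorem exists_eval₂_eq [IsAdicComplete (maximalIdeal Λ) Λ] (he : 0 < e) (x : R) :
    ∃ F : Λ[X], F.degree < e ∧ F.eval₂ f π = x := by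
  let _ : Algebra Λ R := f.toAlgebra
  let I := maximalIdeal Λ
  let g : (Fin e → Λ) →ₗ[Λ] R :=
    { toFun := fun a => ∑ i : Fin e, f (a i) * π ^ (i : ℕ)
      map_add' := fun a b => by
        rw [← Finset.sum_add_distrib]
        exact Finset.sum_congr rfl fun i _ => by rw [Pi.add_apply, map_add, add_mul]
      map_smul' := fun c a => by
        rw [RingHom.id_apply]
        change _ = f c * _
        rw [Finset.mul_sum]
        refine Finset.sum_congr rfl fun i _ => ?_
        rw [Pi.smul_apply, smul_eq_mul, map_mul, mul_assoc] }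
  have := Groth.Agent.Ega1.LimitSystem.isPrecomplete_pi (I := I) (A := Λ) (ι := Fin e)
  have hle : ∀ n : ℕ, ∀ y ∈ (I ^ n • ⊤ : Submodule Λ R), π ^ n ∣ y := by
    intro n y hy
    rw [show I = Ideal.span {(p : Λ)} from hΛ, Ideal.span_singleton_pow,
      Submodule.ideal_span_singleton_smul, Submodule.mem_smul_pointwise_iff_exists] at hy
    obtain ⟨z, -, rfl⟩ := hy
    rw [Algebra.smul_def]
    refine Dvd.dvd.mul_right ?_ _
    change π ^ n ∣ f ((p : Λ) ^ n)
    rw [map_pow, map_natCast, hu]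
    exact pow_dvd_pow_of_dvd (Dvd.dvd.mul_left (dvd_pow_self π he.ne') _) n
  have hH : IsHausdorff I R := by
    refine ⟨fun y hy => ?_⟩
    have h1 : ∀ n, y ∈ maximalIdeal R ^ n := by
      intro n
      have h2 := hy n
      rw [SModEq.zero] at h2
      rw [(IsDiscreteValuationRing.irreducible_iff_uniformizer _).1 hπ, Ideal.span_singleton_pow,
        Ideal.mem_span_singleton]
      exact hle n y h2
    have h2 : y ∈ (⨅ k, maximalIdeal R ^ k : Ideal R) := by
      rw [Ideal.mem_iInf]; exact h1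
    rwa [Ideal.iInf_pow_eq_bot_of_isLocalRing _ (Ideal.IsPrime.ne_top inferInstance), Ideal.mem_bot] at h2
  have hdeg : ∀ F : Λ[X], F.degree < e → g (fun i => F.coeff i) = F.eval₂ f π := by
    intro F hF
    rw [eval₂_eq_sum_range' f (n := e) ?_ π, ← Fin.sum_univ_eq_sum_range (fun j => f (F.coeff j) * π ^ j)]
    · rfl
    · by_cases hF0 : F = 0
      · rw [hF0, natDegree_zero]; exact he
      · exact (natDegree_lt_iff_degree_lt hF0).mpr hF
  have hsurj : Function.Surjective g := by
    refine surjective_of_mkQ_comp_surjective (I := I) ?_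
    intro y
    obtain ⟨y, rfl⟩ := Submodule.mkQ_surjective _ y
    obtain ⟨F, hF, z, hz⟩ := exists_approx f hf π hπ y e
    refine ⟨fun i => F.coeff i, ?_⟩
    rw [LinearMap.comp_apply, hdeg F hF, ← sub_eq_zero, ← map_sub, Submodule.mkQ_apply,
      Submodule.Quotient.mk_eq_zero]
    have h1 : F.eval₂ f π - y = (p : Λ) • (-(↑u⁻¹ * z)) := by
      rw [Algebra.smul_def]
      change _ = f p * _
      rw [map_natCast, hu, ← neg_sub, hz]
      have : (u : R) * ↑u⁻¹ = 1 := Units.mul_inv u
      linear_combination (-(π ^ e * z)) * this.symm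
    rw [h1]
    refine Submodule.smul_mem_smul ?_ trivial
    change (p : Λ) ∈ maximalIdeal Λ
    rw [hΛ]
    exact Ideal.mem_span_singleton_self _
  obtain ⟨a, ha⟩ := hsurj x
  let F : Λ[X] := ∑ i : Fin e, C (a i) * X ^ (i : ℕ)
  refine ⟨F, ?_, ?_⟩
  · rw [← mem_degreeLT]
    refine Submodule.sum_mem _ fun i _ => ?_
    rw [mem_degreeLT]
    refine lt_of_le_of_lt (degree_C_mul_X_pow_le _ _) ?_
    exact_mod_cast i.2
  · rw [← ha, eval₂_finsetSum]
    refine Finset.sum_congr rfl fun i _ => ?_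
    rw [eval₂_mul, eval₂_C, eval₂_X_pow]

end

end Groth.Agent.Sga7.H112.EisBasis
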